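import Cfsg.Agent.Lib.H94.TCJ3A.Chk
set_option Elab.async false
set_option autoImplicit false
set_option maxRecDepth 100000
set_option linter.all false
namespace H94.TCJ3A
open H35.TC
theorem r_80 : allB chkP 9 40960 = true := by decide +kernel
theorem r_81 : allB chkP 9 41472 = true := by decide +kernel
theorem r_82 : allB chkP 9 41984 = true := by decide +kernel
theorem r_83 : allB chkP 9 42496 = true := by decide +kernel
theorem r_84 : allB chkP 9 43008 = true := by decide +kernel
end H94.TCJ3A
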